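import Mathlib
import Cfsg.Agent.Lib.H31.QGd

/-! # Groups with quaternion Sylow 2-subgroups without subgroups of index two, 6: the derived group -/

set_option autoImplicit false

open Cfsg Subgroup H31.QGa H31.QGb H31.GWc3 H31.QGc H31.QGd

namespace H31.QGf

universe u

section two
variable {S : Type*} [Group S] [Finite S]

theorem comm_qd (hS : IsQuasiDihedral S) (R : Subgroup S) (hR : R.Normal) (hn : ∃ a ∈ R, ∃ b ∈ R, a * b ≠ b * a)
    (a b : S) : a * b * a⁻¹ * b⁻¹ ∈ R := by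
  obtain ⟨m, x, y, hc, D⟩ := H25.QD.exists_data hS
  set T : ℤ := 2 ^ m with hT
  obtain ⟨g, hgR, hg⟩ : ∃ g ∈ R, ∀ i : ℤ, g ≠ x ^ i := by
    by_contra hno
    push Not at hno
    obtain ⟨a, ha, b, hb, hab⟩ := hn
    apply hab
    obtain ⟨i, hi⟩ := hno a ha
    obtain ⟨j, hj⟩ := hno b hb
    rw [hi, hj, ← zpow_add, ← zpow_add, add_comm]
  obtain ⟨i, rfl⟩ : ∃ i : ℤ, g = x ^ i * y := by
    rcases H25.QD.cases D g with ⟨i, hi⟩ | h
    · exact (hg i hi).elim
    · exact h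
  have h6 := H25.QD.conj_y_x D (-1) i
  have hw : x ^ (2 - 4 * T) ∈ R := by
    have h7 : x * (x ^ i * y) * x⁻¹ * (x ^ i * y)⁻¹ ∈ R := mul_mem (hR.conj_mem _ hgR x) (inv_mem hgR)
    have h8 : x * (x ^ i * y) * x⁻¹ * (x ^ i * y)⁻¹ = x ^ (2 - 4 * T) := by
      calc x * (x ^ i * y) * x⁻¹ * (x ^ i * y)⁻¹ = x * ((x ^ i * y) * x ^ (-1 : ℤ) * (x ^ i * y)⁻¹) := by
            rw [zpow_neg_one]; group
        _ = x ^ (1 : ℤ) * x ^ ((4 * T - 1) * (-1)) := by rw [h6, zpow_one]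
        _ = x ^ (2 - 4 * T) := by rw [← zpow_add]; congr 1; ring
    rwa [h8] at h7
  haveI := hR
  have hXY : Commute (QuotientGroup.mk x : S ⧸ R) (QuotientGroup.mk y) := by
    show (QuotientGroup.mk x : S ⧸ R) * QuotientGroup.mk y = QuotientGroup.mk y * QuotientGroup.mk x
    rw [← QuotientGroup.mk_mul, ← QuotientGroup.mk_mul, QuotientGroup.eq]
    have h9 : (x * y)⁻¹ * (y * x) = y⁻¹ * (x ^ (2 - 4 * T))⁻¹ * (y⁻¹)⁻¹ := by
      have h10 : y * x = x ^ (4 * T - 1) * y := by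
        rw [← D.yx]; group
      rw [h10]
      calc (x * y)⁻¹ * (x ^ (4 * T - 1) * y) = y⁻¹ * (x ^ (-1 : ℤ) * x ^ (4 * T - 1)) * y := by
            rw [zpow_neg_one]; group
        _ = y⁻¹ * (x ^ (2 - 4 * T))⁻¹ * (y⁻¹)⁻¹ := by
            rw [← zpow_add, ← zpow_neg, inv_inv]
            congr 3
            ring
    rw [h9]
    exact hR.conj_mem _ (inv_mem hw) _
  have key : ∀ a : S, ∃ i j : ℤ, (QuotientGroup.mk a : S ⧸ R) = (QuotientGroup.mk x) ^ i * (QuotientGroup.mk y) ^ j := by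
    intro a
    rcases H25.QD.cases D a with ⟨i, rfl⟩ | ⟨i, rfl⟩
    · exact ⟨i, 0, by rw [zpow_zero, mul_one]; rfl⟩
    · exact ⟨i, 1, by rw [zpow_one]; rfl⟩
  rw [← QuotientGroup.eq_one_iff]
  obtain ⟨i, j, h1⟩ := key a
  obtain ⟨k, l, h2⟩ := key b
  have h3 : Commute (QuotientGroup.mk a : S ⧸ R) (QuotientGroup.mk b) := by
    rw [h1, h2]
    refine Commute.mul_left ?_ ?_
    · exact Commute.mul_right ((Commute.refl _).zpow_zpow _ _) (hXY.zpow_zpow _ _)
    · exact Commute.mul_right (hXY.symm.zpow_zpow _ _) ((Commute.refl _).zpow_zpow _ _)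
  show (QuotientGroup.mk a : S ⧸ R) * QuotientGroup.mk b * (QuotientGroup.mk a)⁻¹ * (QuotientGroup.mk b)⁻¹ = 1
  rw [h3.eq, mul_inv_cancel_right, mul_inv_cancel]

theorem comm_wr (hS : IsWreathed S) (R : Subgroup S) (hR : R.Normal) (hn : ∃ a ∈ R, ∃ b ∈ R, a * b ≠ b * a)
    (a b : S) : a * b * a⁻¹ * b⁻¹ ∈ R := by
  obtain ⟨m, x, y, z, hc, D⟩ := H25.Wr.exists_data hS
  set r : ℤ := 2 ^ m with hr
  have hUc : ∀ a ∈ H25.Wr.U D, ∀ b ∈ H25.Wr.U D, a * b = b * a := by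
    rintro _ ⟨i, j, rfl⟩ _ ⟨k, l, rfl⟩
    rw [H25.Wr.A_mul D, H25.Wr.A_mul D, add_comm i, add_comm j]
  obtain ⟨g, hgR, hg⟩ : ∃ g ∈ R, g ∉ H25.Wr.U D := by
    by_contra hno
    push Not at hno
    obtain ⟨a, ha, b, hb, hab⟩ := hn
    exact hab (hUc a (hno a ha) b (hno b hb))
  obtain ⟨i, j, rfl⟩ : ∃ i j : ℤ, g = H25.Wr.A x y i j * z := by
    rcases H25.Wr.cases D g with h | h
    · exact (hg h).elim
    · exact h
  have h6 := H25.Wr.conj_Az_A D i j (-1) 0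
  have hw : x * y⁻¹ ∈ R := by
    have h7 : x * (H25.Wr.A x y i j * z) * x⁻¹ * (H25.Wr.A x y i j * z)⁻¹ ∈ R :=
      mul_mem (hR.conj_mem _ hgR x) (inv_mem hgR)
    have hA1 : H25.Wr.A x y (-1) 0 = x⁻¹ := by
      rw [← neg_zero, ← H25.Wr.A_inv D, ← H25.Wr.x_eq]
    have hA2 : H25.Wr.A x y 0 (-1) = y⁻¹ := by
      have : (0 : ℤ) = -0 := by norm_num
      rw [this, ← H25.Wr.A_inv D, ← H25.Wr.y_eq]
    have h8 : x * (H25.Wr.A x y i j * z) * x⁻¹ * (H25.Wr.A x y i j * z)⁻¹ = x * y⁻¹ := by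
      calc x * (H25.Wr.A x y i j * z) * x⁻¹ * (H25.Wr.A x y i j * z)⁻¹
          = x * ((H25.Wr.A x y i j * z) * H25.Wr.A x y (-1) 0 * (H25.Wr.A x y i j * z)⁻¹) := by
            rw [hA1]; group
        _ = x * y⁻¹ := by rw [h6, hA2]
    rwa [h8] at h7
  haveI := hR
  have hXY : (QuotientGroup.mk x : S ⧸ R) = QuotientGroup.mk y := by
    rw [QuotientGroup.eq]
    have h9 : x⁻¹ * y = x⁻¹ * (x * y⁻¹)⁻¹ * (x⁻¹)⁻¹ := by group
    rw [h9]
    exact hR.conj_mem _ (inv_mem hw) _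
  have hXZ : Commute (QuotientGroup.mk x : S ⧸ R) (QuotientGroup.mk z) := by
    show (QuotientGroup.mk x : S ⧸ R) * QuotientGroup.mk z = QuotientGroup.mk z * QuotientGroup.mk x
    have h10 : z * x = y * z := by rw [← D.zx]; group
    rw [← QuotientGroup.mk_mul, ← QuotientGroup.mk_mul, h10, QuotientGroup.mk_mul, QuotientGroup.mk_mul, hXY]
  have key : ∀ a : S, ∃ i j : ℤ, (QuotientGroup.mk a : S ⧸ R) = (QuotientGroup.mk x) ^ i * (QuotientGroup.mk z) ^ j := by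
    intro a
    have hA : ∀ i j : ℤ, (QuotientGroup.mk (H25.Wr.A x y i j) : S ⧸ R) = (QuotientGroup.mk x) ^ (i + j) := by
      intro i j
      have h11 : (QuotientGroup.mk (H25.Wr.A x y i j) : S ⧸ R) = (QuotientGroup.mk x) ^ i * (QuotientGroup.mk y) ^ j := rfl
      rw [h11, ← hXY, zpow_add]
    rcases H25.Wr.cases D a with ⟨i, j, rfl⟩ | ⟨i, j, rfl⟩
    · exact ⟨i + j, 0, by rw [zpow_zero, mul_one, hA]⟩
    · exact ⟨i + j, 1, by rw [zpow_one, QuotientGroup.mk_mul, hA]⟩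
  rw [← QuotientGroup.eq_one_iff]
  obtain ⟨i, j, h1⟩ := key a
  obtain ⟨k, l, h2⟩ := key b
  have h3 : Commute (QuotientGroup.mk a : S ⧸ R) (QuotientGroup.mk b) := by
    rw [h1, h2]
    refine Commute.mul_left ?_ ?_
    · exact Commute.mul_right ((Commute.refl _).zpow_zpow _ _) (hXZ.zpow_zpow _ _)
    · exact Commute.mul_right (hXZ.symm.zpow_zpow _ _) ((Commute.refl _).zpow_zpow _ _)
  show (QuotientGroup.mk a : S ⧸ R) * QuotientGroup.mk b * (QuotientGroup.mk a)⁻¹ * (QuotientGroup.mk b)⁻¹ = 1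
  rw [h3.eq, mul_inv_cancel_right, mul_inv_cancel]

/-- a characteristic commutative subgroup of index two -/
theorem exists_char (hS : IsQuasiDihedral S ∨ IsWreathed S) :
    ∃ U : Subgroup S, U.Characteristic ∧ (∀ a ∈ U, ∀ b ∈ U, a * b = b * a) ∧ U.index = 2 := by
  rcases hS with h | h
  · obtain ⟨m, x, y, hc, D⟩ := H25.QD.exists_data h
    set T : ℤ := 2 ^ m with hT
    have hidx := H25.QD.index_zpowers D
    have huniq : ∀ B : Subgroup S, (∀ a ∈ B, ∀ b ∈ B, a * b = b * a) → B.index = 2 → B = zpowers x := by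
      intro B hB hBi
      have hle : B ≤ zpowers x := by
        intro b hb
        by_contra hbx
        obtain ⟨i, rfl⟩ : ∃ i : ℤ, b = x ^ i * y := by
          rcases H25.QD.cases D b with ⟨i, hi⟩ | h
          · exact (hbx ⟨i, hi.symm⟩).elim
          · exact h
        have hx2 : x ^ (2 : ℤ) ∈ B := by
          have := Subgroup.sq_mem_of_index_two hBi x
          exact_mod_cast this
        have h1 := hB _ hb _ hx2
        have h2 := H25.QD.conj_y_x D 2 i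
        rw [h1, mul_inv_cancel_right, H25.QD.zpow_eq_iff D] at h2
        have h3 : 8 * T ∣ 4 := by
          obtain ⟨c, hc'⟩ := h2
          exact ⟨c + 1, by linarith⟩
        have h4 := Int.le_of_dvd (by norm_num) h3
        have h5 := D.pos
        omega
      apply Subgroup.eq_of_le_of_card_ge hle
      have h6 := B.card_mul_index
      have h7 := (zpowers x).card_mul_index
      rw [hBi] at h6
      rw [hidx] at h7
      omega
    refine ⟨zpowers x, ?_, ?_, hidx⟩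
    · rw [characteristic_iff_map_eq]
      intro φ
      apply huniq
      · rintro _ ⟨a, ha, rfl⟩ _ ⟨b, hb, rfl⟩
        obtain ⟨i, rfl⟩ := ha
        obtain ⟨j, rfl⟩ := hb
        show φ (x ^ i) * φ (x ^ j) = φ (x ^ j) * φ (x ^ i)
        rw [← map_mul, ← map_mul, ← zpow_add, ← zpow_add, add_comm]
      · have h8 := (map φ.toMonoidHom (zpowers x)).card_mul_index
        have h9 := (zpowers x).card_mul_index
        rw [Subgroup.card_map_of_injective φ.injective] at h8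
        rw [hidx] at h9
        rw [← h9] at h8
        exact Nat.eq_of_mul_eq_mul_left Nat.card_pos h8
    · rintro _ ⟨i, rfl⟩ _ ⟨j, rfl⟩
      show x ^ i * x ^ j = x ^ j * x ^ i
      rw [← zpow_add, ← zpow_add, add_comm]
  · obtain ⟨m, x, y, z, hc, D⟩ := H25.Wr.exists_data h
    set r : ℤ := 2 ^ m with hr
    have hUc : ∀ a ∈ H25.Wr.U D, ∀ b ∈ H25.Wr.U D, a * b = b * a := by
      rintro _ ⟨i, j, rfl⟩ _ ⟨k, l, rfl⟩
      rw [H25.Wr.A_mul D, H25.Wr.A_mul D, add_comm i, add_comm j]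
    refine ⟨H25.Wr.U D, ?_, hUc, H25.Wr.index_U D⟩
    rw [characteristic_iff_map_eq]
    intro φ
    apply H25.Wr.eq_U D
    · refine ⟨⟨?_⟩⟩
      rintro ⟨_, a, ha, rfl⟩ ⟨_, b, hb, rfl⟩
      apply Subtype.ext
      show φ a * φ b = φ b * φ a
      rw [← map_mul, ← map_mul, hUc a ha b hb]
    · rw [Subgroup.card_map_of_injective φ.injective, H25.Wr.card_U D]

end two

end H31.QGf
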