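import Mathlib
import Cfsg.Agent.Lib.H31.QGe
import Cfsg.Agent.Lib.H31.QGf

/-! # Groups with quaternion Sylow 2-subgroups without subgroups of index two, 7: the derived group -/

set_option autoImplicit false

open Cfsg Subgroup H31.QGa H31.QGb H31.GWc3 H31.QGc H31.QGd H31.QGe H31.QGf

namespace H31.QGg

universe u

section
variable {H : Type*} [Group H] [Finite H] {K : Subgroup H}

theorem noncomm (S : Sylow 2 H) (hK : QK K) :
    ∃ a ∈ K.subgroupOf (S : Subgroup H), ∃ b ∈ K.subgroupOf (S : Subgroup H), a * b ≠ b * a := by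
  haveI : Fact (Nat.Prime 2) := ⟨Nat.prime_two⟩
  haveI := hK.normal
  obtain ⟨T, hT⟩ := H13.SylowN.exists_sylow_inf S K
  obtain ⟨m, hm, ⟨eQ⟩⟩ := hK.quat T
  have eR : K.subgroupOf (S : Subgroup H) ≃* (T : Subgroup K) := by
    rw [hT]
    exact { toFun := fun r => ⟨⟨r.1.1, r.2⟩, r.1.2⟩
            invFun := fun t => ⟨⟨t.1.1, t.2⟩, t.1.2⟩
            left_inv := fun r => rfl
            right_inv := fun t => rfl
            map_mul' := fun a b => rfl }
  obtain ⟨a, b, hab⟩ := quat_noncomm hm
  let e' := eR.trans eQ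
  refine ⟨(e'.symm a).1, (e'.symm a).2, (e'.symm b).1, (e'.symm b).2, ?_⟩
  intro h
  apply hab
  have h3 : e'.symm a * e'.symm b = e'.symm b * e'.symm a := Subtype.ext h
  rw [← map_mul, ← map_mul] at h3
  exact e'.symm.injective h3

/-- commutators lie in `K` -/
theorem comm_mem (S : Sylow 2 H) (hS : IsQuasiDihedral (S : Subgroup H) ∨ IsWreathed (S : Subgroup H))
    (hK : QK K) (a b : H) : a * b * a⁻¹ * b⁻¹ ∈ K := by
  haveI : Fact (Nat.Prime 2) := ⟨Nat.prime_two⟩
  haveI := hK.normal
  have hRn : (K.subgroupOf (S : Subgroup H)).Normal := hK.normal.subgroupOf _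
  have hRS : ∀ a b : (S : Subgroup H), a * b * a⁻¹ * b⁻¹ ∈ K.subgroupOf (S : Subgroup H) := by
    rcases hS with h | h
    · exact comm_qd h _ hRn (noncomm S hK)
    · exact comm_wr h _ hRn (noncomm S hK)
  have htop : (S : Subgroup H) ⊔ K = ⊤ := by
    rw [← Subgroup.index_eq_one]
    obtain ⟨n, hn⟩ := hK.idx
    have h1 : ((S : Subgroup H) ⊔ K).index ∣ 2 ^ n := by
      rw [← hn]; exact Subgroup.index_dvd_of_le le_sup_right
    have h2 : ((S : Subgroup H) ⊔ K).index ∣ (S : Subgroup H).index := Subgroup.index_dvd_of_le le_sup_left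
    have h3 : Nat.Coprime (2 ^ n) ((S : Subgroup H) ⊔ K).index := by
      apply Nat.Coprime.pow_left
      rw [Nat.coprime_comm]
      apply Nat.Coprime.symm
      rw [Nat.Prime.coprime_iff_not_dvd Nat.prime_two]
      intro h4
      exact S.not_dvd_index (h4.trans h2)
    exact Nat.Coprime.eq_one_of_dvd h3.symm h1
  have key : ∀ a : H, ∃ s : (S : Subgroup H), (QuotientGroup.mk a : H ⧸ K) = QuotientGroup.mk (s : H) := by
    intro a
    have h1 : a ∈ (S : Subgroup H) ⊔ K := htop ▸ mem_top a
    rw [Subgroup.mem_sup_of_normal_right] at h1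
    obtain ⟨s, hs, k, hk, rfl⟩ := h1
    refine ⟨⟨s, hs⟩, ?_⟩
    rw [QuotientGroup.eq]
    have : (s * k)⁻¹ * s = k⁻¹ := by group
    rw [this]
    exact K.inv_mem hk
  rw [← QuotientGroup.eq_one_iff]
  obtain ⟨s, hs⟩ := key a
  obtain ⟨t, ht⟩ := key b
  have h5 := hRS s t
  rw [mem_subgroupOf] at h5
  have h6 : (QuotientGroup.mk ((s : H) * t * (s : H)⁻¹ * (t : H)⁻¹) : H ⧸ K) = 1 := (QuotientGroup.eq_one_iff _).mpr h5
  calc (QuotientGroup.mk (a * b * a⁻¹ * b⁻¹) : H ⧸ K)
      = QuotientGroup.mk a * QuotientGroup.mk b * (QuotientGroup.mk a)⁻¹ * (QuotientGroup.mk b)⁻¹ := rfl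
    _ = QuotientGroup.mk ((s : H) * t * (s : H)⁻¹ * (t : H)⁻¹) := by rw [hs, ht]; rfl
    _ = 1 := h6

theorem commutator_le_K (S : Sylow 2 H) (hS : IsQuasiDihedral (S : Subgroup H) ∨ IsWreathed (S : Subgroup H))
    (hK : QK K) : commutator H ≤ K := by
  rw [_root_.commutator_def, commutator_le]
  intro a _ b _
  rw [commutatorElement_def]
  exact comm_mem S hS hK a b

/-- a homomorphism from `K` killing all elements of odd order is trivial -/
theorem hom_odd (hK : QK K) {Y : Type*} [Group Y] (f : K →* Y) (hf : ∀ x : K, Odd (orderOf x) → f x = 1) (x : K) :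
    f x = 1 := by
  apply hom_trivial hK.two f
  rintro ⟨_, g, rfl⟩
  obtain ⟨k, m, hm, hk⟩ := Nat.exists_eq_two_pow_mul_odd (orderOf_pos g).ne'
  refine ⟨k, ?_⟩
  apply Subtype.ext
  show (f g) ^ 2 ^ k = 1
  rw [← map_pow]
  apply hf
  rw [orderOf_pow_of_dvd (by positivity) (by rw [hk]; exact dvd_mul_right _ _), hk,
    Nat.mul_div_cancel_left _ (by positivity)]
  exact hm

/-- `K ≅ SL(2,3)` lies in the derived group -/
theorem three_le (S : Sylow 2 H) (hS : IsQuasiDihedral (S : Subgroup H) ∨ IsWreathed (S : Subgroup H))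
    (hK : QK K) (e : K ≃* Matrix.SpecialLinearGroup (Fin 2) (ZMod 3)) : K ≤ commutator H := by
  classical
  haveI : Fact (Nat.Prime 2) := ⟨Nat.prime_two⟩
  haveI : Fact (Nat.Prime 3) := ⟨Nat.prime_three⟩
  haveI := hK.normal
  have hK24 : Nat.card K = 24 := by rw [Nat.card_congr e.toEquiv, card_sl23]
  set D : Subgroup H := commutator H with hD
  have hDK : D ≤ K := commutator_le_K S hS hK
  haveI hDn : D.Normal := inferInstance
  have hcard := (D.subgroupOf K).card_mul_index
  rw [Nat.card_congr (Subgroup.subgroupOfEquivOfLe hDK).toEquiv, hK24] at hcard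
  by_cases h3 : 3 ∣ Nat.card D
  · -- the quotient is a 2-group
    obtain ⟨c, hc⟩ := h3
    have h8 : c * (D.subgroupOf K).index = 8 := by
      rw [hc, mul_assoc] at hcard
      omega
    have hp : IsPGroup 2 (K ⧸ D.subgroupOf K) := by
      have h9 : (D.subgroupOf K).index ∣ 2 ^ 3 := ⟨c, by rw [mul_comm, h8]; norm_num⟩
      obtain ⟨k, -, hk⟩ := (Nat.dvd_prime_pow Nat.prime_two).mp h9
      exact IsPGroup.of_card (n := k) (by rw [← Subgroup.index_eq_card, hk])
    intro x hx
    have h10 := hom_trivial hK.two (QuotientGroup.mk' (D.subgroupOf K)) (hp.to_subgroup _) ⟨x, hx⟩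
    exact mem_subgroupOf.mp ((QuotientGroup.eq_one_iff _).mp h10)
  · exfalso
    have h8 : Nat.card D ∣ 8 := by
      have h9 : Nat.card D ∣ 3 * 8 := ⟨_, hcard.symm⟩
      exact Nat.Coprime.dvd_of_dvd_mul_left ((Nat.Prime.coprime_iff_not_dvd Nat.prime_three).mpr h3).symm h9
    have hDp : IsPGroup 2 D := by
      obtain ⟨k, -, hk⟩ := (Nat.dvd_prime_pow Nat.prime_two).mp (show Nat.card D ∣ 2 ^ 3 by simpa using h8)
      exact IsPGroup.of_card (n := k) hk
    have hDS : D ≤ (S : Subgroup H) := (H1.Cores.le_pCore hDn hDp).trans (H1.Cores.pCore_le_sylow S)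
    haveI hSn : (S : Subgroup H).Normal := by
      refine ⟨fun s hs g => ?_⟩
      have h10 : g * s * g⁻¹ * s⁻¹ ∈ D := by
        rw [← commutatorElement_def]
        exact Subgroup.commutator_mem_commutator (mem_top g) (mem_top s)
      have h11 := (S : Subgroup H).mul_mem (hDS h10) hs
      rwa [inv_mul_cancel_right] at h11
    obtain ⟨U, hUchar, hUc, hUi⟩ := exists_char hS
    haveI := hUchar
    set V : Subgroup H := U.map (S : Subgroup H).subtype ⊓ K with hV
    haveI hUn : (U.map (S : Subgroup H).subtype).Normal := inferInstance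
    haveI hVn : V.Normal := inferInstance
    have hVK : V ≤ K := inf_le_right
    have hVS : V ≤ (S : Subgroup H) := inf_le_left.trans (map_subtype_le U)
    have hVp : IsPGroup 2 V := S.2.to_le hVS
    -- order of the intersection with K
    set Q : Subgroup (S : Subgroup H) := K.subgroupOf (S : Subgroup H) with hQ
    have hQ8 : Nat.card Q = 8 := by
      obtain ⟨T, hT⟩ := H13.SylowN.exists_sylow_inf S K
      have eR : Q ≃* (T : Subgroup K) := by
        rw [hT]
        exact { toFun := fun r => ⟨⟨r.1.1, r.2⟩, r.1.2⟩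
                invFun := fun t => ⟨⟨t.1.1, t.2⟩, t.1.2⟩
                left_inv := fun r => rfl
                right_inv := fun t => rfl
                map_mul' := fun a b => rfl }
      rw [Nat.card_congr eR.toEquiv, T.card_eq_multiplicity, hK24]
      have h4 : Nat.factorization 24 2 = 3 := by
        rw [show (24 : ℕ) = 2 ^ 3 * 3 by norm_num]
        rw [Nat.factorization_mul (by norm_num) (by norm_num), Finsupp.add_apply,
          Nat.Prime.factorization_pow Nat.prime_two, Finsupp.single_eq_same,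
          Nat.factorization_eq_zero_of_not_dvd (show ¬ 2 ∣ 3 by norm_num)]
      rw [h4]; norm_num
    haveI hUnS : U.Normal := inferInstance
    have hVU : V = (U ⊓ Q).map (S : Subgroup H).subtype := by
      ext x
      rw [hV, mem_inf, mem_map, mem_map]
      constructor
      · rintro ⟨⟨y, hy, rfl⟩, hx⟩
        exact ⟨y, ⟨hy, mem_subgroupOf.mpr hx⟩, rfl⟩
      · rintro ⟨y, ⟨hy, hyQ⟩, rfl⟩
        exact ⟨⟨y, hy, rfl⟩, mem_subgroupOf.mp hyQ⟩
    have hVcard : Nat.card V = Nat.card (U ⊓ Q : Subgroup (S : Subgroup H)) := by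
      rw [hVU, Subgroup.card_map_of_injective (S : Subgroup H).subtype_injective]
    have hV4 : Nat.card V = 4 := by
      rw [hVcard]
      have h12 := ((U ⊓ Q).subgroupOf Q).card_mul_index
      rw [Nat.card_congr (Subgroup.subgroupOfEquivOfLe (inf_le_right : U ⊓ Q ≤ Q)).toEquiv, hQ8] at h12
      have h13 : ((U ⊓ Q).subgroupOf Q).index ∣ 2 := by
        have h14 : ((U ⊓ Q).subgroupOf Q).index = U.relIndex Q := by
          show (U ⊓ Q).relIndex Q = _
          rw [Subgroup.inf_relIndex_right]
        have h14' := Subgroup.relIndex_dvd_index_of_normal U Q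
        rw [hUi] at h14'
        rw [h14]
        exact h14'
      rcases (Nat.dvd_prime Nat.prime_two).mp h13 with h | h
      · exfalso
        rw [h, mul_one] at h12
        have h15 : U ⊓ Q = Q := Subgroup.eq_of_le_of_card_ge inf_le_right (by rw [h12, hQ8])
        obtain ⟨a, ha, b, hb, hab⟩ := noncomm S hK
        apply hab
        have h16 : Q ≤ U := by rw [← h15]; exact inf_le_left
        exact hUc a (h16 ha) b (h16 hb)
      · rw [h] at h12; omega
    -- an element of order four
    obtain ⟨v, hv, hv2⟩ : ∃ v ∈ V, v * v ≠ 1 := by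
      by_contra hno
      push Not at hno
      have h17 : Nat.card V ≤ 2 := by
        apply card_le_two
        intro a ha b hb ha1 hb1
        exact hK.unique hVK hVp ha hb (orderOf_eq_prime (by rw [pow_two]; exact hno a ha) ha1)
          (orderOf_eq_prime (by rw [pow_two]; exact hno b hb) hb1)
      omega
    haveI hVcyc : IsCyclic V := by
      apply isCyclic_of_orderOf_eq_card (⟨v, hv⟩ : V)
      rw [hV4]
      have h18 : orderOf (⟨v, hv⟩ : V) ∣ 2 ^ 2 := by
        have := orderOf_dvd_natCard (⟨v, hv⟩ : V)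
        rw [hV4] at this
        exact this
      obtain ⟨k, hk2, hk⟩ := (Nat.dvd_prime_pow Nat.prime_two).mp h18
      rw [hk]
      have h19 : ¬ k ≤ 1 := by
        intro hk1
        have h20 : orderOf (⟨v, hv⟩ : V) ∣ 2 := by
          rw [hk]
          exact (pow_dvd_pow 2 hk1)
        have h21 := orderOf_dvd_iff_pow_eq_one.mp h20
        rw [pow_two] at h21
        exact hv2 (congrArg Subtype.val h21)
      have : k = 2 := by omega
      rw [this]; norm_num
    have hcent : ∀ x : K, (MulAut.conjNormal (x : H) : MulAut V) = 1 := by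
      intro x
      apply hom_odd hK ((MulAut.conjNormal : H →* MulAut V).comp K.subtype)
      intro g hg
      show (MulAut.conjNormal (g : H) : MulAut V) = 1
      have h22 : (g : H) ∈ centralizer (V : Set H) :=
        H53.Q8.mem_centralizer_of_cyclic hVp (by rw [normalizer_eq_top]; exact mem_top _)
          (by rw [Subgroup.orderOf_coe]; exact hg)
      ext y
      rw [MulAut.conjNormal_apply, ← mem_centralizer_iff.mp h22 y y.2]
      simp
    have hvc : v * v = 1 := by
      apply center_sq' e (hVK hv)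
      intro y hy
      have h23 := congrArg Subtype.val (DFunLike.congr_fun (hcent ⟨y, hy⟩) ⟨v, hv⟩)
      rw [MulAut.conjNormal_apply] at h23
      simp only [MulAut.one_apply] at h23
      rw [mul_inv_eq_iff_eq_mul] at h23
      exact h23.symm
    exact hv2 hvc

end

end H31.QGg
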