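import Mathlib
import Cfsg.Agent.Lib.H31.QGg
import Cfsg.Agent.Lib.H2.Frobenius

/-! # Groups with quaternion Sylow 2-subgroups without subgroups of index two, 8: the derived group -/

set_option autoImplicit false

open Cfsg Subgroup H31.QGa H31.QGb H31.GWc3 H31.QGc H31.QGd H31.QGe H31.QGf H31.QGg

namespace H31.QGh

universe u

section
variable {H : Type*} [Group H] [Finite H] {K : Subgroup H}

/-- two commuting involutions of `K` are equal -/
theorem QK_inv (hK : QK K) {a b : H} (ha : a ∈ K) (hb : b ∈ K) (oa : orderOf a = 2) (ob : orderOf b = 2)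
    (hc : a * b = b * a) : a = b := by
  haveI : Fact (Nat.Prime 2) := ⟨Nat.prime_two⟩
  have h1 : IsPGroup 2 (zpowers a ⊔ zpowers b : Subgroup H) := by
    apply IsPGroup.to_sup_of_normal_right' (isPGroup_zpowers (k := 1) (by rw [oa, pow_one]))
      (isPGroup_zpowers (k := 1) (by rw [ob, pow_one]))
    rw [zpowers_le, Subgroup.mem_normalizer_iff]
    have h2 : ∀ x, x ∈ zpowers b → a * x * a⁻¹ = x := by
      rintro _ ⟨k, rfl⟩
      have h3 : Commute a (b ^ k) := (show Commute a b from hc).zpow_right k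
      show a * b ^ k * a⁻¹ = b ^ k
      rw [h3.eq, mul_inv_cancel_right]
    intro x
    constructor
    · intro hx
      rw [h2 x hx]; exact hx
    · intro hx
      have h3 := h2 _ hx
      have h4 : a * x * a⁻¹ = x := by
        have h5 : a * (a * x * a⁻¹) * a⁻¹ = a * x * a⁻¹ := h3
        have h6 := congrArg (fun t => a⁻¹ * t * a) h5
        simpa [mul_assoc] using h6
      rwa [h4] at hx
  have hle : (zpowers a ⊔ zpowers b : Subgroup H) ≤ K := sup_le (by rwa [zpowers_le]) (by rwa [zpowers_le])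
  exact hK.unique hle h1 (mem_sup_left (mem_zpowers a)) (mem_sup_right (mem_zpowers b)) oa ob

/-- the centralizer of `E` in `K` lies in `E` -/
theorem cent_le (hO : oddCore H = ⊥) (hK : QK K) {E : Subgroup H} [hEn : E.Normal] (hEK : E ≤ K) {F : Type*} [Field F]
    [Fintype F] (hodd : Odd (Fintype.card F)) (e : E ≃* Matrix.SpecialLinearGroup (Fin 2) F) :
    K ⊓ centralizer (E : Set H) ≤ E := by
  classical
  haveI : Fact (Nat.Prime 2) := ⟨Nat.prime_two⟩
  haveI := hK.normal
  set D : Subgroup H := K ⊓ centralizer (E : Set H) with hD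
  haveI hCn : (centralizer (E : Set H)).Normal := inferInstance
  haveI hDn : D.Normal := inferInstance
  obtain ⟨b, hbE, ob⟩ := exists_four' hodd e
  have hDE : ∀ x ∈ D, ∀ y ∈ E, x * y = y * x := by
    intro x hx y hy
    exact (mem_centralizer_iff.mp hx.2 y hy).symm
  -- no elements of order four
  have h4 : ∀ a ∈ D, orderOf a ≠ 4 := by
    intro a ha oa
    have h1 := hK.four ha.1 (hEK hbE) oa ob (hDE a ha b hbE)
    have haE : a ∈ E := by
      have : zpowers b ≤ E := by rwa [zpowers_le]
      exact this h1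
    have h7 := center_sq' e haE (hDE a ha)
    have h8 : orderOf a ∣ 2 := orderOf_dvd_of_pow_eq_one (by rw [pow_two]; exact h7)
    rw [oa] at h8
    omega
  -- the central involution
  obtain ⟨z, hzE, oz, hzc⟩ : ∃ z ∈ E, orderOf z = 2 ∧ ∀ y ∈ E, z * y = y * z := by
    have h2 := two_ne_zero_of_odd hodd
    let w : Matrix.SpecialLinearGroup (Fin 2) F := -1
    have hw : w ∈ center (Matrix.SpecialLinearGroup (Fin 2) F) := by
      rw [mem_center_iff]
      intro g
      show g * (-1) = (-1) * g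
      simp
    refine ⟨(e.symm w : H), (e.symm w).2, ?_, ?_⟩
    · rw [Subgroup.orderOf_coe, MulEquiv.orderOf_eq]
      apply orderOf_eq_prime
      · show (-1 : Matrix.SpecialLinearGroup (Fin 2) F) ^ 2 = 1
        simp
      · intro h
        have h3 := congrArg (fun A : Matrix.SpecialLinearGroup (Fin 2) F => A.1 0 0) h
        have h3' : (-1 : F) = 1 := by
          simpa [w] using h3
        apply h2
        linear_combination (-1 : F) * h3'
    · intro y hy
      rw [mem_center_iff] at hw
      have h5 := hw (e ⟨y, hy⟩)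
      have h6 : (e.symm w) * ⟨y, hy⟩ = ⟨y, hy⟩ * (e.symm w) := by
        apply e.injective
        rw [map_mul, map_mul, e.apply_symm_apply]
        exact h5.symm
      exact congrArg Subtype.val h6
  -- all involutions of D are equal to z
  have hinv : ∀ a ∈ D, orderOf a = 2 → a = z := by
    intro a ha oa
    exact QK_inv hK ha.1 (hEK hzE) oa oz (hDE a ha z hzE)
  -- elements of 2-power order
  have h2el : ∀ a ∈ D, ∀ k : ℕ, a ^ 2 ^ k = 1 → a * a = 1 := by
    intro a ha k hk
    obtain ⟨j, -, hj⟩ := (Nat.dvd_prime_pow Nat.prime_two).mp (orderOf_dvd_of_pow_eq_one hk)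
    by_cases hj1 : j ≤ 1
    · have h8 : orderOf a ∣ 2 := by rw [hj]; exact pow_dvd_pow 2 hj1
      have := orderOf_dvd_iff_pow_eq_one.mp h8
      rwa [pow_two] at this
    · exfalso
      apply h4 (a ^ 2 ^ (j - 2)) (D.pow_mem ha _)
      have h9 : 2 ^ j = 2 ^ (j - 2) * 4 := by
        have : j = (j - 2) + 2 := by omega
        conv_lhs => rw [this]
        rw [pow_add]; norm_num
      rw [orderOf_pow_of_dvd (by positivity) (by rw [hj, h9]; exact dvd_mul_right _ _), hj, h9,
        Nat.mul_div_cancel_left _ (by positivity)]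
  have hcard2 : ∀ B : Subgroup D, IsPGroup 2 B → Nat.card B ≤ 2 := by
    intro B hB
    apply card_le_two
    have hkey : ∀ a ∈ B, a ≠ 1 → (a : H) = z := by
      intro a ha ha1
      obtain ⟨k, hk⟩ := hB ⟨a, ha⟩
      have hk' : (a : H) ^ 2 ^ k = 1 := by
        have := congrArg (fun t : B => ((t : D) : H)) hk
        simpa using this
      apply hinv a a.2
      apply orderOf_eq_prime
      · rw [pow_two]; exact h2el a a.2 k hk'
      · intro h; exact ha1 (Subtype.ext h)
    intro a ha c hc ha1 hc1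
    exact Subtype.ext ((hkey a ha ha1).trans (hkey c hc hc1).symm)
  have hnpc : HasNormalPComplement 2 D := by
    apply H2.Frobenius.hasNPC_of_local
    intro B hB g hg _
    exact H31.HN.cent_of_card_le_two (hcard2 B hB) hg
  obtain ⟨L, hL, hLco, k, hk⟩ := (H39.PNilp.iff_exists).mp hnpc
  have hL1 : L ≤ pPrimeCore 2 D := H1.Cores.le_pPrimeCore hL hLco
  have hL2 : pPrimeCore 2 D = ⊥ := H59.G8.bot_of_normal hO hDn
  have hL3 : L = ⊥ := by rw [eq_bot_iff, ← hL2]; exact hL1
  rw [hL3, Subgroup.index_bot] at hk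
  have hDp : IsPGroup 2 D := IsPGroup.of_card hk
  intro x hx
  by_cases hx1 : x = 1
  · rw [hx1]; exact E.one_mem
  obtain ⟨k, hk⟩ := hDp ⟨x, hx⟩
  have h10 := h2el x hx k (congrArg Subtype.val hk)
  have h11 := hinv x hx (orderOf_eq_prime (by rw [pow_two]; exact h10) hx1)
  rw [h11]
  exact hzE

/-- an element acting trivially on `E / Z(E)` centralises `E` -/
theorem cent_of_Phi {E : Subgroup H} [E.Normal] (hE : ⁅E, E⁆ = E) {x : H}
    (h : Φ E (MulAut.conjNormal x) = 1) : x ∈ centralizer (E : Set H) := by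
  have h4 : (MulAut.conjNormal x : MulAut E) = 1 := by
    apply aut_of_perfect (commutator_top hE)
    intro y
    have h5 := DFunLike.congr_fun h (QuotientGroup.mk y)
    have h6 : (QuotientGroup.mk ((MulAut.conjNormal x : MulAut E) y) : E ⧸ center E) = QuotientGroup.mk y := h5
    exact QuotientGroup.eq.mp h6.symm
  rw [mem_centralizer_iff]
  intro y hy
  have h5 := congrArg Subtype.val (DFunLike.congr_fun h4 ⟨y, hy⟩)
  rw [MulAut.conjNormal_apply] at h5
  simp only [MulAut.one_apply] at h5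
  rw [mul_inv_eq_iff_eq_mul] at h5
  exact h5.symm

/-- the derived group, `E ≅ SL(2,q)`, `q > 3` -/
theorem big_le (S : Sylow 2 H) (hS : IsQuasiDihedral (S : Subgroup H) ∨ IsWreathed (S : Subgroup H))
    (hO : oddCore H = ⊥) (hK : QK K) {E : Subgroup H} [hEn : E.Normal] (hEK : E ≤ K) (hEp : ⁅E, E⁆ = E)
    {F : Type*} [Field F] [Fintype F] (hodd : Odd (Fintype.card F))
    (e : E ≃* Matrix.SpecialLinearGroup (Fin 2) F) (x y : H) : x * y * x⁻¹ * y⁻¹ ∈ E := by
  classical
  obtain ⟨p, hp⟩ := CharP.exists F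
  haveI : Fact p.Prime := ⟨CharP.char_is_prime F p⟩
  have hcm : (center E).map (e : E →* Matrix.SpecialLinearGroup (Fin 2) F) = center (Matrix.SpecialLinearGroup (Fin 2) F) := by
    ext g
    rw [mem_map]
    constructor
    · rintro ⟨y, hy, rfl⟩
      rw [mem_center_iff] at hy ⊢
      intro w
      obtain ⟨w, rfl⟩ := e.surjective w
      show e w * e y = e y * e w
      rw [← map_mul, hy w, map_mul]
    · intro hx
      obtain ⟨y, rfl⟩ := e.surjective g
      refine ⟨y, ?_, rfl⟩
      rw [mem_center_iff] at hx ⊢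
      intro w
      apply e.injective
      rw [map_mul, map_mul]
      exact hx (e w)
  let ē : E ⧸ center E ≃* Matrix.ProjectiveSpecialLinearGroup (Fin 2) F :=
    QuotientGroup.congr (center E) (center (Matrix.SpecialLinearGroup (Fin 2) F)) e hcm
  let Ψ : H →* MulAut (Matrix.ProjectiveSpecialLinearGroup (Fin 2) F) :=
    (MulAut.congr ē).toMonoidHom.comp ((Φ E).comp (MulAut.conjNormal : H →* MulAut E))
  obtain ⟨c₀, hc₀⟩ := H62.PGX.out_comm (p := p) (two_ne_zero_of_odd hodd) (Ψ x) (Ψ y)
  obtain ⟨u', hu'⟩ := ē.surjective c₀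
  obtain ⟨u, rfl⟩ := QuotientGroup.mk_surjective u'
  have hu : Ψ (u : H) = MulAut.conj c₀ := by
    ext w
    obtain ⟨w', rfl⟩ := ē.surjective w
    obtain ⟨w, rfl⟩ := QuotientGroup.mk_surjective w'
    have h1 : (Ψ (u : H)) (ē (QuotientGroup.mk w)) = ē (Φ E (MulAut.conjNormal (u : H)) (ē.symm (ē (QuotientGroup.mk w)))) := rfl
    rw [h1, ē.symm_apply_apply]
    have h2 : Φ E (MulAut.conjNormal (u : H)) (QuotientGroup.mk w) = QuotientGroup.mk (u * w * u⁻¹) := by
      have h3 : (MulAut.conjNormal (u : H) : MulAut E) w = u * w * u⁻¹ := by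
        apply Subtype.ext
        rw [MulAut.conjNormal_apply]; rfl
      show QuotientGroup.mk ((MulAut.conjNormal (u : H) : MulAut E) w) = _
      rw [h3]
    rw [h2, MulAut.conj_apply, ← hu', ← map_mul, ← map_inv, ← map_mul]
    rfl
  have hc : Ψ (x * y * x⁻¹ * y⁻¹) = Ψ (u : H) := by
    rw [map_mul, map_mul, map_mul, map_inv, map_inv, hc₀, hu]
  have h5 : Ψ (x * y * x⁻¹ * y⁻¹ * (u : H)⁻¹) = 1 := by
    rw [map_mul, hc, map_inv, mul_inv_cancel]
  have h6 : Φ E (MulAut.conjNormal (x * y * x⁻¹ * y⁻¹ * (u : H)⁻¹)) = 1 := by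
    apply (MulAut.congr ē).injective
    rw [map_one]
    exact h5
  have h7 := cent_of_Phi hEp h6
  have h8 : x * y * x⁻¹ * y⁻¹ * (u : H)⁻¹ ∈ K := K.mul_mem (comm_mem S hS hK x y) (K.inv_mem (hEK u.2))
  have h9 := cent_le hO hK hEK hodd e ⟨h8, h7⟩
  have h10 := E.mul_mem h9 u.2
  rwa [inv_mul_cancel_right] at h10

end

/-- the derived group of a core-free group with quasi-dihedral or wreathed Sylow 2-subgroups and a `QK` subgroup -/
theorem derived (GW : GWPerf.{u}) {H : Type u} [Group H] [Finite H] (S : Sylow 2 H)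
    (hS : IsQuasiDihedral (S : Subgroup H) ∨ IsWreathed (S : Subgroup H)) (hO : oddCore H = ⊥) {K : Subgroup H}
    (hK : QK K) : ∃ (F : Type) (_ : Field F) (_ : Fintype F), Odd (Fintype.card F) ∧
      Nonempty (commutator H ≃* Matrix.SpecialLinearGroup (Fin 2) F) := by
  haveI : Fact (Nat.Prime 2) := ⟨Nat.prime_two⟩
  haveI : Fact (Nat.Prime 3) := ⟨Nat.prime_three⟩
  by_cases hs : Group.IsSolvable K
  · have hOK : oddCore K = ⊥ := H59.G8.bot_of_normal hO hK.normal
    obtain ⟨P⟩ : Nonempty (Sylow 2 K) := inferInstance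
    obtain ⟨m, hm, ⟨eP⟩⟩ := hK.quat P
    obtain ⟨e⟩ := solv_case hs hOK P hm eP hK.two
    have h1 : commutator H = K := le_antisymm (commutator_le_K S hS hK) (three_le S hS hK e)
    exact ⟨ZMod 3, inferInstance, inferInstance, by rw [ZMod.card]; decide,
      ⟨(MulEquiv.subgroupCongr h1).trans e⟩⟩
  · obtain ⟨E, hEn, hEK, hEp, hEm, F, i1, i2, hodd, h3, ⟨e⟩⟩ := main GW S hS hO hK hs
    haveI := hEn
    have h1 : commutator H = E := by
      apply le_antisymm
      · rw [_root_.commutator_def, commutator_le]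
        intro a _ b _
        rw [commutatorElement_def]
        exact big_le S hS hO hK hEK hEp hodd e a b
      · rw [← hEp, _root_.commutator_def]
        exact commutator_mono le_top le_top
    exact ⟨F, i1, i2, hodd, ⟨(MulEquiv.subgroupCongr h1).trans e⟩⟩

end H31.QGh
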